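import Groth.Agent.Lib.FEtEq25.Graph
import Groth.Agent.Lib.FEtLimit25.Connected
import Groth.Prelude.Def_PiSp
import Mathlib.CategoryTheory.Galois.IsFundamentalgroup
import Mathlib.AlgebraicGeometry.Noetherian

/-!
# Topological generation of the fundamental group
-/

set_option autoImplicit false
set_option linter.style.haveILetI false
set_option backward.isDefEq.respectTransparency false

universe u

open CategoryTheory CategoryTheory.Limits AlgebraicGeometry TopologicalSpace

noncomputable section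

namespace Groth.Agent.Pi1Gen25

variable {X : Scheme.{u}} {Ω : Type u} [Field Ω] [IsAlgClosed Ω]

/-- Connected components of a Noetherian space are clopen. -/
theorem isClopen_component {α : Type*} [TopologicalSpace α] [NoetherianSpace α] (x : α) :
    IsClopen (connectedComponent x) := by
  refine ⟨isClosed_connectedComponent, ?_⟩
  have : connectedComponent x =
      (⋃ D ∈ {D ∈ irreducibleComponents α | ¬ D ⊆ connectedComponent x}, D)ᶜ := by
    ext y
    simp only [Set.mem_compl_iff, Set.mem_iUnion, not_exists]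
    refine ⟨fun hy D hD hyD => hD.2 ?_, fun h => ?_⟩
    · rw [connectedComponent_eq hy]
      exact hD.1.1.isConnected.subset_connectedComponent hyD
    · by_contra hy
      exact h (irreducibleComponent y) ⟨irreducibleComponent_mem_irreducibleComponents y,
        fun hs => hy (hs mem_irreducibleComponent)⟩ mem_irreducibleComponent
  rw [this]
  exact ((NoetherianSpace.finite_irreducibleComponents.subset fun D hD => hD.1).isClosed_biUnion
    fun D hD => isClosed_of_mem_irreducibleComponents D hD.1).isOpen_compl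

/-- Finitely many points meet every connected component of a Noetherian space. -/
theorem exists_finite_points (α : Type*) [TopologicalSpace α] [NoetherianSpace α] :
    ∃ P : Set α, P.Finite ∧ ∀ y : α, ∃ p ∈ P, y ∈ connectedComponent p := by
  classical
  haveI := (NoetherianSpace.finite_irreducibleComponents (α := α)).to_subtype
  refine ⟨Set.range fun D : irreducibleComponents α => D.2.1.nonempty.some, Set.finite_range _, fun y => ?_⟩
  let D : irreducibleComponents α := ⟨irreducibleComponent y, irreducibleComponent_mem_irreducibleComponents y⟩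
  exact ⟨_, ⟨D, rfl⟩,
    D.2.1.isConnected.subset_connectedComponent D.2.1.nonempty.some_mem mem_irreducibleComponent⟩

variable (ξ : Spec (CommRingCat.of Ω) ⟶ X)

/-- Fibre functors at any two geometric points of a connected scheme are isomorphic. -/
theorem exists_path [PreconnectedSpace X] {Ω' : Type u} [Field Ω'] [IsAlgClosed Ω']
    (ξ' : Spec (CommRingCat.of Ω') ⟶ X) : Nonempty (FEt.fiber ξ ≅ FEt.fiber ξ') :=
  ⟨Functor.isoWhiskerRight (FEtEq25.nonempty_fiberFin_iso ξ ξ').some FintypeCat.incl⟩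

/-- The fundamental group acts transitively on the fibre of a connected cover. -/
theorem exists_smul_eq [PreconnectedSpace X] (W : FEt.Cat X) [ConnectedSpace W.left]
    (s t : FEt.fiberObj ξ W) : ∃ σ : FEt.piOne X ξ, (σ.hom.app W) s = t := by
  haveI := FEtEq25.fiberFunctor ξ
  haveI : GaloisCategory (FEt.Cat X) := { hasFiberFunctor := ⟨FEtEq25.fiberFin ξ, ⟨FEtEq25.fiberFunctor ξ⟩⟩ }
  haveI := FEtLimit25.isConnected_of_connectedSpace W
  obtain ⟨σ, hσ⟩ := MulAction.exists_smul_eq (Aut (FEtEq25.fiberFin ξ))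
    (α := (FEtEq25.fiberFin ξ).obj W) s t
  exact ⟨Functor.isoWhiskerRight σ FintypeCat.incl, hσ⟩

/-- A map from the spectrum of a field lands in any set containing the image of its point. -/
theorem range_subset {V : Scheme.{u}} (s : Spec (CommRingCat.of Ω) ⟶ V) {D : Set V}
    (h : s (IsLocalRing.closedPoint Ω) ∈ D) : Set.range s ⊆ D := by
  rintro _ ⟨z, rfl⟩
  rwa [Subsingleton.elim (α := PrimeSpectrum Ω) z (IsLocalRing.closedPoint Ω)]

/-- A point of a clopen part lifts to the corresponding cover. -/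
theorem exists_lift_openCover (W : FEt.Cat X) (D : W.left.Opens) (hD : IsClosed (D : Set W.left))
    (s : FEt.fiberObj ξ W) (hs : s.1 (IsLocalRing.closedPoint Ω) ∈ D) :
    ∃ s' : FEt.fiberObj ξ (FEtEq25.openCover' W D hD),
      (FEt.fiber ξ).map (FEtEq25.openCoverι W D hD) s' = s := by
  have h : Set.range s.1 ⊆ Set.range D.ι := by rw [D.range_ι]; exact range_subset s.1 hs
  refine ⟨⟨IsOpenImmersion.lift D.ι s.1 h, ?_⟩, Subtype.ext (IsOpenImmersion.lift_fac _ _ _)⟩
  show IsOpenImmersion.lift D.ι s.1 h ≫ D.ι ≫ W.hom = ξ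
  rw [IsOpenImmersion.lift_fac_assoc]
  exact s.2

/-- Natural maps of fibre functors respect clopen parts of covers. -/
theorem app_mem {Ω' : Type u} [Field Ω'] {ξ' : Spec (CommRingCat.of Ω') ⟶ X}
    (e : FEt.fiber ξ ⟶ FEt.fiber ξ') (W : FEt.Cat X) (D : W.left.Opens) (hD : IsClosed (D : Set W.left))
    (s : FEt.fiberObj ξ W) (hs : s.1 (IsLocalRing.closedPoint Ω) ∈ D) :
    (show FEt.fiberObj ξ' W from e.app W s).1 (IsLocalRing.closedPoint Ω') ∈ D := by
  obtain ⟨s', rfl⟩ := exists_lift_openCover ξ W D hD s hs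
  let t : FEt.fiberObj ξ' (FEtEq25.openCover' W D hD) := e.app (FEtEq25.openCover' W D hD) s'
  have h : (show FEt.fiberObj ξ' W from e.app W ((FEt.fiber ξ).map (FEtEq25.openCoverι W D hD) s')) =
      (FEt.fiber ξ').map (FEtEq25.openCoverι W D hD) t :=
    NatTrans.naturality_apply e (FEtEq25.openCoverι W D hD) s'
  rw [h]
  show (t.1 ≫ D.ι) (IsLocalRing.closedPoint Ω') ∈ D
  exact (t.1 (IsLocalRing.closedPoint Ω')).2

theorem app_mem_iff {Ω' : Type u} [Field Ω'] {ξ' : Spec (CommRingCat.of Ω') ⟶ X}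
    (e : FEt.fiber ξ ⟶ FEt.fiber ξ') (W : FEt.Cat X) (D : W.left.Opens) (hD : IsClosed (D : Set W.left))
    (s : FEt.fiberObj ξ W) :
    (show FEt.fiberObj ξ' W from e.app W s).1 (IsLocalRing.closedPoint Ω') ∈ D ↔
      s.1 (IsLocalRing.closedPoint Ω) ∈ D := by
  refine ⟨fun h => ?_, app_mem ξ e W D hD s⟩
  by_contra hs
  have := app_mem ξ e W ⟨(D : Set W.left)ᶜ, hD.isOpen_compl⟩ D.isOpen.isClosed_compl s hs
  exact this h

/-- The underlying space of a cover of a Noetherian scheme is Noetherian. -/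
theorem noetherianSpace_cover [IsNoetherian X] (W : FEt.Cat X) : NoetherianSpace W.left := by
  let g : W.left ⟶ X := W.hom
  haveI : IsFinite g := W.prop.1
  haveI : IsLocallyNoetherian W.left := LocallyOfFiniteType.isLocallyNoetherian g
  haveI : CompactSpace W.left := QuasiCompact.compactSpace_of_compactSpace g
  haveI : IsNoetherian W.left := {}
  infer_instance

/-- A subset of a fibre invariant under the fundamental group is cut out by a clopen. -/
theorem exists_clopen_of_invariant [PreconnectedSpace X] [IsNoetherian X] (W : FEt.Cat X)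
    (O : Set (FEt.fiberObj ξ W))
    (hO : ∀ σ : FEt.piOne X ξ, ∀ s ∈ O, (show FEt.fiberObj ξ W from σ.hom.app W s) ∈ O) :
    ∃ D : Set W.left, IsClopen D ∧ ∀ s : FEt.fiberObj ξ W, s ∈ O ↔ s.1 (IsLocalRing.closedPoint Ω) ∈ D := by
  haveI := noetherianSpace_cover W
  haveI := FEtEq25.finite_fiberObj ξ W
  refine ⟨⋃ t ∈ O, connectedComponent (t.1 (IsLocalRing.closedPoint Ω)),
    O.toFinite.isClopen_biUnion fun t _ => isClopen_component _, fun s => ⟨fun hs => ?_, fun hs => ?_⟩⟩
  · exact Set.mem_biUnion hs mem_connectedComponent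
  · obtain ⟨t, ht, hst⟩ := Set.mem_iUnion₂.1 hs
    let D : W.left.Opens := ⟨connectedComponent (t.1 (IsLocalRing.closedPoint Ω)), (isClopen_component _).2⟩
    have hD : IsClosed (D : Set W.left) := (isClopen_component _).1
    haveI : ConnectedSpace (FEtEq25.openCover' W D hD).left :=
      isConnected_iff_connectedSpace.1 (show _root_.IsConnected (D : Set W.left) from isConnected_connectedComponent)
    obtain ⟨t', ht'⟩ := exists_lift_openCover ξ W D hD t mem_connectedComponent
    obtain ⟨s', hs'⟩ := exists_lift_openCover ξ W D hD s hst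
    obtain ⟨σ, hσ⟩ := exists_smul_eq ξ (FEtEq25.openCover' W D hD) t' s'
    have h := NatTrans.naturality_apply σ.hom (FEtEq25.openCoverι W D hD) t'
    rw [hσ, hs', ht'] at h
    exact h ▸ hO σ t ht

/-- Permutations of the fibres preserved by topological generators are preserved by the whole group. -/
theorem invariant_of_topGenerates {S : Set (FEt.piOne X ξ)} (hS : PiSp.TopGenerates S) (W : FEt.Cat X)
    (O : Set (FEt.fiberObj ξ W))
    (hO : ∀ σ ∈ S, ∀ s, s ∈ O ↔ (show FEt.fiberObj ξ W from σ.hom.app W s) ∈ O)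
    (σ : FEt.piOne X ξ) (s : FEt.fiberObj ξ W) :
    s ∈ O ↔ (show FEt.fiberObj ξ W from σ.hom.app W s) ∈ O := by
  let P : Set (FEt.piOne X ξ) := {σ | ∀ s, s ∈ O ↔ (show FEt.fiberObj ξ W from σ.hom.app W s) ∈ O}
  have hsub : (Subgroup.closure S : Set (FEt.piOne X ξ)) ⊆ P := by
    intro τ hτ
    induction hτ using Subgroup.closure_induction with
    | mem x hx => exact hO x hx
    | one => exact fun s => Iff.rfl
    | mul x y _ _ hx hy => exact fun s => (hy s).trans (hx _)
    | inv x _ hx =>
      intro s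
      refine Iff.trans ?_ (hx _).symm
      show s ∈ O ↔ (show FEt.fiberObj ξ W from x.hom.app W (x.inv.app W s)) ∈ O
      rw [show (show FEt.fiberObj ξ W from x.hom.app W (x.inv.app W s)) = s from
        ConcreteCategory.congr_hom (x.inv_hom_id_app W) s]
  have hclosed : IsClosed P := by
    let G : (FEt.fiberObj ξ W → FEt.fiberObj ξ W) → Prop := fun g => ∀ s, s ∈ O ↔ g s ∈ O
    letI : TopologicalSpace (FEt.fiberObj ξ W → FEt.fiberObj ξ W) := ⊥
    haveI : DiscreteTopology (FEt.fiberObj ξ W → FEt.fiberObj ξ W) := ⟨rfl⟩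
    have hc : Continuous (fun (σ : FEt.piOne X ξ) (s : FEt.fiberObj ξ W) =>
        (show FEt.fiberObj ξ W from σ.hom.app W s)) := by
      letI : ∀ Z : FEt.Cat X, TopologicalSpace (FEt.fiberObj ξ Z → FEt.fiberObj ξ Z) := fun _ => ⊥
      have h1 : Continuous (fun (σ : FEt.piOne X ξ) (Z : FEt.Cat X) (s : FEt.fiberObj ξ Z) =>
          (show FEt.fiberObj ξ Z from (σ.hom.app Z) s)) := continuous_induced_dom
      exact (continuous_apply W).comp h1
    exact (isClosed_discrete {g | G g}).preimage hc
  have : σ ∈ P := by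
    have h := hS σ
    exact hclosed.closure_subset_iff.2 hsub h
  exact this s

/-- A finite set of points of fibres is dominated by one point of a connected cover. -/
theorem exists_dominating [ConnectedSpace X] [IsNoetherian X] (I : List (Σ Z : FEt.Cat X, FEt.fiberObj ξ Z)) :
    ∃ (W : FEt.Cat X) (_ : ConnectedSpace W.left) (p : FEt.fiberObj ξ W),
      ∀ z ∈ I, ∃ φ : W ⟶ z.1, (FEt.fiber ξ).map φ p = z.2 := by
  induction I with
  | nil =>
    exact ⟨MorphismProperty.Over.mk ⊤ (𝟙 X) ⟨inferInstance, inferInstance⟩, ‹ConnectedSpace X›,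
      ⟨ξ, Category.comp_id ξ⟩, fun z hz => absurd hz List.not_mem_nil⟩
  | cons a l ih =>
    obtain ⟨W, hW, p, hp⟩ := ih
    obtain ⟨Z, s⟩ := a
    haveI : IsFinite (pullback.fst W.hom Z.hom ≫ W.hom) := inferInstance
    haveI : Etale (pullback.fst W.hom Z.hom ≫ W.hom) := inferInstance
    let V : FEt.Cat X := MorphismProperty.Over.mk ⊤ (pullback.fst W.hom Z.hom ≫ W.hom) ⟨inferInstance, inferInstance⟩
    let q : FEt.fiberObj ξ V := ⟨pullback.lift p.1 s.1 (p.2.trans s.2.symm), by
      show pullback.lift p.1 s.1 _ ≫ pullback.fst W.hom Z.hom ≫ W.hom = ξ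
      rw [pullback.lift_fst_assoc]
      exact p.2⟩
    haveI := noetherianSpace_cover V
    let D : V.left.Opens := ⟨connectedComponent (q.1 (IsLocalRing.closedPoint Ω)), (isClopen_component _).2⟩
    have hD : IsClosed (D : Set V.left) := (isClopen_component _).1
    haveI hc : ConnectedSpace (FEtEq25.openCover' V D hD).left :=
      isConnected_iff_connectedSpace.1 (show _root_.IsConnected (D : Set V.left) from isConnected_connectedComponent)
    obtain ⟨q', hq'⟩ := exists_lift_openCover ξ V D hD q mem_connectedComponent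
    let π₁ : V ⟶ W := MorphismProperty.Over.homMk (pullback.fst W.hom Z.hom) rfl
    let π₂ : V ⟶ Z := MorphismProperty.Over.homMk (pullback.snd W.hom Z.hom) pullback.condition.symm
    have h1 : (FEt.fiber ξ).map π₁ q = p := Subtype.ext (pullback.lift_fst _ _ _)
    have h2 : (FEt.fiber ξ).map π₂ q = s := Subtype.ext (pullback.lift_snd _ _ _)
    refine ⟨FEtEq25.openCover' V D hD, hc, q', fun z hz => ?_⟩
    rcases List.mem_cons.1 hz with rfl | hz
    · refine ⟨FEtEq25.openCoverι V D hD ≫ π₂, ?_⟩
      rw [FunctorToTypes.map_comp_apply, hq', h2]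
    · obtain ⟨φ, hφ⟩ := hp z hz
      refine ⟨FEtEq25.openCoverι V D hD ≫ π₁ ≫ φ, ?_⟩
      rw [FunctorToTypes.map_comp_apply, FunctorToTypes.map_comp_apply, hq', h1, hφ]

/-- A set whose generated subgroup is transitive on connected covers generates topologically. -/
theorem topGenerates_of_transitive [ConnectedSpace X] [IsNoetherian X] (S : Set (FEt.piOne X ξ))
    (h : ∀ (W : FEt.Cat X), ConnectedSpace W.left → ∀ s t : FEt.fiberObj ξ W,
      ∃ τ ∈ Subgroup.closure S, (show FEt.fiberObj ξ W from τ.hom.app W s) = t) :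
    PiSp.TopGenerates S := by
  classical
  intro σ
  rw [mem_closure_iff_nhds]
  intro U hU
  letI : ∀ Z : FEt.Cat X, TopologicalSpace (FEt.fiberObj ξ Z → FEt.fiberObj ξ Z) := fun _ => ⊥
  have hind : PiSp.piOneTopology X ξ = TopologicalSpace.induced
      (fun (σ : FEt.piOne X ξ) (Z : FEt.Cat X) (s : FEt.fiberObj ξ Z) =>
        (show FEt.fiberObj ξ Z from (σ.hom.app Z) s)) Pi.topologicalSpace := rfl
  rw [hind, nhds_induced, Filter.mem_comap] at hU
  obtain ⟨V, hV, hVU⟩ := hU
  rw [nhds_pi, Filter.mem_pi] at hV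
  obtain ⟨I, hI, t, ht, htV⟩ := hV
  have hfin : ∀ Z : FEt.Cat X, Finite (FEt.fiberObj ξ Z) := fun Z => FEtEq25.finite_fiberObj ξ Z
  let L : Set (Σ Z : FEt.Cat X, FEt.fiberObj ξ Z) := {z | z.1 ∈ I}
  have hL : L.Finite := by
    refine ((hI.biUnion (t := fun Z => Set.range (Sigma.mk (β := fun Z => FEt.fiberObj ξ Z) Z))
      fun Z _ => by haveI := hfin Z; exact Set.finite_range _).subset ?_)
    rintro ⟨Z, s⟩ hz
    exact Set.mem_biUnion (show Z ∈ I from hz) ⟨s, rfl⟩
  obtain ⟨W, hW, p, hp⟩ := exists_dominating ξ hL.toFinset.toList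
  obtain ⟨τ, hτ, hτp⟩ := h W hW p (σ.hom.app W p)
  refine ⟨τ, hVU (htV fun Z hZ => ?_), hτ⟩
  have heq : (fun s : FEt.fiberObj ξ Z => (τ.hom.app Z) s) = fun s => (σ.hom.app Z) s := by
    funext s
    obtain ⟨φ, hφ⟩ := hp ⟨Z, s⟩ (Finset.mem_toList.2 (hL.mem_toFinset.2 hZ))
    have h1 := NatTrans.naturality_apply τ.hom φ p
    have h2 := NatTrans.naturality_apply σ.hom φ p
    rw [hφ] at h1 h2
    rw [h1, h2]
    exact congrArg _ hτp
  show (fun s : FEt.fiberObj ξ Z => (τ.hom.app Z) s) ∈ t Z
  rw [heq]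
  exact @mem_of_mem_nhds _ ⊥ _ _ (ht Z)

end Groth.Agent.Pi1Gen25
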