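import Groth.Agent.Lib.Pi1Gen25.Local

/-!
# Topological generators of the fundamental group along a proper surjection
-/

set_option autoImplicit false
set_option linter.style.haveILetI false
set_option backward.isDefEq.respectTransparency false

universe u

open CategoryTheory CategoryTheory.Limits AlgebraicGeometry TopologicalSpace

noncomputable section

namespace Groth.Agent.Pi1Gen25

variable {S S' : Scheme.{u}}

theorem fg_of_proper_surjective [IsNoetherian S] [ConnectedSpace S] (g : S' ⟶ S) [IsProper g] [Surjective g]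
    (hfg : ∀ (C : S'.Opens), IsClosed (C : Set S') → ConnectedSpace C →
      ∀ (Ω : Type u) [Field Ω] [IsAlgClosed Ω] (η : Spec (CommRingCat.of Ω) ⟶ (C : Scheme.{u})),
        ∃ F : Finset (FEt.piOne (C : Scheme.{u}) η), PiSp.TopGenerates (F : Set (FEt.piOne (C : Scheme.{u}) η)))
    {Ω : Type u} [Field Ω] [IsAlgClosed Ω] (ξ : Spec (CommRingCat.of Ω) ⟶ S) :
    ∃ F : Finset (FEt.piOne S ξ), PiSp.TopGenerates (F : Set (FEt.piOne S ξ)) := by
  classical
  haveI : IsLocallyNoetherian S' := LocallyOfFiniteType.isLocallyNoetherian g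
  haveI : CompactSpace S' := QuasiCompact.compactSpace_of_compactSpace g
  haveI : IsNoetherian S' := {}
  haveI : IsProper (pullback.fst g g) := MorphismProperty.pullback_fst g g ‹IsProper g›
  haveI : IsLocallyNoetherian ↑(pullback g g) := LocallyOfFiniteType.isLocallyNoetherian (pullback.fst g g)
  haveI : CompactSpace ↥(pullback g g) := QuasiCompact.compactSpace_of_compactSpace (pullback.fst g g)
  haveI : IsNoetherian (pullback g g) := {}
  haveI : Nonempty S' := ⟨(g.surjective (Classical.arbitrary S)).choose⟩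
  obtain ⟨P, hPf, hP⟩ := exists_finite_points S'
  let J : Set (Set S') := (fun p => connectedComponent p) '' P
  haveI : Finite J := (hPf.image _).to_subtype
  have hJ : ∀ C : J, IsClopen C.1 ∧ _root_.IsConnected C.1 := by
    rintro ⟨_, p, -, rfl⟩
    exact ⟨isClopen_component p, isConnected_connectedComponent⟩
  let U : J → S'.Opens := fun C => ⟨C.1, (hJ C).1.2⟩
  have hU : ∀ C, IsClosed ((U C : S'.Opens) : Set S') := fun C => (hJ C).1.1
  haveI hUc : ∀ C, ConnectedSpace (U C) := fun C => isConnected_iff_connectedSpace.1 (hJ C).2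
  haveI hUn : ∀ C, IsNoetherian ((U C : S'.Opens) : Scheme.{u}) := fun C => by
    haveI : IsLocallyNoetherian ((U C : S'.Opens) : Scheme.{u}) := isLocallyNoetherian_of_isOpenImmersion (U C).ι
    haveI : CompactSpace (U C) := isCompact_iff_compactSpace.1 (hU C).isCompact
    exact {}
  have huniq : ∀ (C C' : J) (y : S'), y ∈ U C → y ∈ U C' → C = C' := by
    have key : ∀ (C : J) (y : S'), y ∈ U C → connectedComponent y = C.1 := by
      rintro ⟨V, hV⟩ y hy
      obtain ⟨p, _, hp⟩ := hV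
      change connectedComponent p = V at hp
      have hy' : y ∈ connectedComponent p := hp.symm.subset (show y ∈ V from hy)
      exact (connectedComponent_eq hy').symm.trans hp
    intro C C' y h h'
    exact Subtype.ext ((key C y h).symm.trans (key C' y h'))
  have hJe : ∀ y : S', ∃ C : J, y ∈ U C := fun y => by
    obtain ⟨p, hp, hy⟩ := hP y
    exact ⟨⟨_, p, hp, rfl⟩, hy⟩
  -- base points, generators and paths on the components
  have hbase : ∀ C : J, ∃ (K : Type u) (_ : Field K) (_ : IsAlgClosed K)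
      (η : Spec (CommRingCat.of K) ⟶ ((U C : S'.Opens) : Scheme.{u}))
      (G : Finset (FEt.piOne _ η)), PiSp.TopGenerates (G : Set (FEt.piOne _ η)) ∧
        Nonempty (FEt.fiber ξ ≅ FEt.fiber (η ≫ (U C).ι ≫ g)) := fun C => by
    obtain ⟨K, i₁, i₂, η, -⟩ := FEtEq25.exists_geomPoint (W := ((U C : S'.Opens) : Scheme.{u})) (Classical.arbitrary _)
    obtain ⟨G, hG⟩ := hfg (U C) (hU C) (hUc C) K η
    exact ⟨K, i₁, i₂, η, G, hG, exists_path ξ _⟩
  choose K iK iKc η G hG hγ using hbase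
  let γ := fun C : J => (hγ C).some
  -- loops from the components of the fibre product
  obtain ⟨Q, hQf, hQ⟩ := exists_finite_points ↥(pullback g g)
  have hloop : ∀ q : ↥(pullback g g), ∃ (L : Type u) (_ : Field L) (_ : IsAlgClosed L)
      (θ : Spec (CommRingCat.of L) ⟶ pullback g g) (C₁ C₂ : J)
      (θ₁ : Spec (CommRingCat.of L) ⟶ ((U C₁ : S'.Opens) : Scheme.{u}))
      (θ₂ : Spec (CommRingCat.of L) ⟶ ((U C₂ : S'.Opens) : Scheme.{u})),
      (∀ x, θ x = q) ∧ θ₁ ≫ (U C₁).ι = θ ≫ pullback.fst g g ∧ θ₂ ≫ (U C₂).ι = θ ≫ pullback.snd g g ∧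
        Nonempty (FEt.fiber (η C₁) ≅ FEt.fiber θ₁) ∧ Nonempty (FEt.fiber (η C₂) ≅ FEt.fiber θ₂) := fun q => by
    obtain ⟨L, i₁, i₂, θ, hθ⟩ := FEtEq25.exists_geomPoint (W := pullback g g) q
    obtain ⟨C₁, hC₁⟩ := hJe (pullback.fst g g q)
    obtain ⟨C₂, hC₂⟩ := hJe (pullback.snd g g q)
    have e₁ : Set.range (θ ≫ pullback.fst g g) ⊆ Set.range (U C₁).ι := by
      rw [Scheme.Opens.range_ι]
      rintro _ ⟨z, rfl⟩
      rw [Scheme.Hom.comp_apply, hθ z]
      exact hC₁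
    have e₂ : Set.range (θ ≫ pullback.snd g g) ⊆ Set.range (U C₂).ι := by
      rw [Scheme.Opens.range_ι]
      rintro _ ⟨z, rfl⟩
      rw [Scheme.Hom.comp_apply, hθ z]
      exact hC₂
    letI := iK C₁; letI := iKc C₁; letI := iK C₂; letI := iKc C₂
    exact ⟨L, i₁, i₂, θ, C₁, C₂, IsOpenImmersion.lift _ _ e₁, IsOpenImmersion.lift _ _ e₂, hθ,
      IsOpenImmersion.lift_fac _ _ e₁, IsOpenImmersion.lift_fac _ _ e₂, exists_path _ _, exists_path _ _⟩
  choose L iL iLc θ C₁ C₂ θ₁ θ₂ hθ hθ₁ hθ₂ hδ₁ hδ₂ using hloop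
  let δ₁ := fun q => (hδ₁ q).some
  let δ₂ := fun q => (hδ₂ q).some
  have h₁ : ∀ q, θ₁ q ≫ (U (C₁ q)).ι ≫ g = θ q ≫ pullback.fst g g ≫ g := fun q => by
    rw [reassoc_of% (hθ₁ q)]
  have h₂ : ∀ q, θ₂ q ≫ (U (C₂ q)).ι ≫ g = θ q ≫ pullback.fst g g ≫ g := fun q => by
    rw [reassoc_of% (hθ₂ q), pullback.condition]
  let α₁ : ∀ q, FEt.fiber ξ ≅ FEt.fiber (θ q ≫ pullback.fst g g ≫ g) := fun q =>
    (γ (C₁ q) ≪≫ push ((U (C₁ q)).ι ≫ g) (δ₁ q)) ≪≫ congrPt (h₁ q)
  let α₂ : ∀ q, FEt.fiber ξ ≅ FEt.fiber (θ q ≫ pullback.fst g g ≫ g) := fun q =>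
    (γ (C₂ q) ≪≫ push ((U (C₂ q)).ι ≫ g) (δ₂ q)) ≪≫ congrPt (h₂ q)
  let F : Set (FEt.piOne S ξ) :=
    (⋃ C : J, (fun σ => γ C ≪≫ push ((U C).ι ≫ g) σ ≪≫ (γ C).symm) '' (G C : Set (FEt.piOne _ (η C)))) ∪
      (fun q => α₁ q ≪≫ (α₂ q).symm) '' Q
  have hF : F.Finite :=
    (Set.finite_iUnion fun C => (G C).finite_toSet.image _).union (hQf.image _)
  refine ⟨hF.toFinset, topGenerates_of_transitive ξ _ fun W hW s₀ t₀ => ?_⟩
  rw [hF.coe_toFinset]
  let O : Set (FEt.fiberObj ξ W) := {u | ∃ τ ∈ Subgroup.closure F, act τ W s₀ = u}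
  suffices h : ∀ u, u ∈ O from h t₀
  have hO : ∀ τ ∈ F, Keeps W O τ := by
    intro τ hτ u
    refine ⟨fun ⟨ρ, hρ, he⟩ => ⟨τ * ρ, mul_mem (Subgroup.subset_closure hτ) hρ, ?_⟩,
      fun ⟨ρ, hρ, he⟩ => ⟨τ⁻¹ * ρ, mul_mem (inv_mem (Subgroup.subset_closure hτ)) hρ, ?_⟩⟩
    · exact (act_trans ρ τ W s₀).trans (congrArg _ he)
    · exact (act_trans ρ τ.symm W s₀).trans ((congrArg _ he).trans ((act τ W).symm_apply_apply u))
  have hDex := fun C : J =>
    letI := iK C; letI := iKc C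
    exists_local_clopen ξ ((U C).ι ≫ g) (η C) (γ C) _ (hG C) W O fun σ hσ =>
      hO _ (Or.inl (Set.mem_iUnion.2 ⟨C, σ, hσ, rfl⟩))
  choose D hDc hD using hDex
  obtain ⟨D', hD', hglue⟩ := exists_glue g W U hU huniq D hDc
  haveI : IsFinite (pullback.snd W.hom (pullback.fst g g ≫ g)) := MorphismProperty.pullback_snd _ _ W.prop.1
  haveI : Etale (pullback.snd W.hom (pullback.fst g g ≫ g)) := MorphismProperty.pullback_snd _ _ W.prop.2
  let z : pullback W.hom (pullback.fst g g ≫ g) ⟶ pullback g g := pullback.snd _ _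
  let q₁ : pullback W.hom (pullback.fst g g ≫ g) ⟶ pullback W.hom g :=
    pullback.lift (pullback.fst _ _) (z ≫ pullback.fst g g) (pullback.condition.trans (Category.assoc _ _ _).symm)
  let q₂ : pullback W.hom (pullback.fst g g ≫ g) ⟶ pullback W.hom g :=
    pullback.lift (pullback.fst _ _) (z ≫ pullback.snd g g)
      (pullback.condition.trans ((congrArg _ (pullback.condition (f := g) (g := g))).trans
        (Category.assoc _ _ _).symm))
  have hagree : ∀ w, q₁ w ∈ D' ↔ q₂ w ∈ D' := by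
    intro w
    by_contra hne
    let E : Set ↥(pullback W.hom (pullback.fst g g ≫ g)) := (q₁ ⁻¹' D' \ q₂ ⁻¹' D') ∪ (q₂ ⁻¹' D' \ q₁ ⁻¹' D')
    have hE : IsClopen E :=
      ((hD'.preimage q₁.continuous).diff (hD'.preimage q₂.continuous)).union
        ((hD'.preimage q₂.continuous).diff (hD'.preimage q₁.continuous))
    have hwE : w ∈ E := by
      by_cases h : q₁ w ∈ D'
      · exact Or.inl ⟨h, fun h' => hne ⟨fun _ => h', fun _ => h⟩⟩
      · refine Or.inr ⟨?_, h⟩
        by_contra h'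
        exact hne ⟨fun e => absurd e h, fun e => absurd e h'⟩
    obtain ⟨q, hq, hqw⟩ := hQ (z w)
    have hcl := (FEtEq25.isClopen_image z hE).connectedComponent_subset ⟨w, hwE, rfl⟩
    obtain ⟨e, heE, heq⟩ := hcl ((connectedComponent_eq hqw) ▸ mem_connectedComponent : q ∈ connectedComponent (z w))
    letI := iL q
    letI := iLc q
    obtain ⟨s, hs, hse⟩ := FEtEq25.exists_fiber_point (θ q) z e (heq.trans (hθ q _).symm)
    let u : FEt.fiberObj (θ q ≫ pullback.fst g g ≫ g) W := ⟨s ≫ pullback.fst _ _, by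
      refine (Category.assoc _ _ _).trans ?_
      refine (congrArg (s ≫ ·) pullback.condition).trans ?_
      exact (Category.assoc _ _ _).symm.trans (congrArg (· ≫ pullback.fst g g ≫ g) hs)⟩
    have e₁ : q₁ e ∈ D' ↔ act (α₁ q).symm W u ∈ O := by
      rw [← hse, ← Scheme.Hom.comp_apply, show s ≫ q₁ = pullback.lift u.1 (θ₁ q ≫ (U (C₁ q)).ι)
        (u.2.trans ((h₁ q).symm.trans (Category.assoc _ _ _).symm)) by
          apply pullback.hom_ext
          · simp [q₁, u]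
          · simp [q₁, hθ₁, z, reassoc_of% hs]]
      letI := iK (C₁ q); letI := iKc (C₁ q)
      exact (hglue (C₁ q) (L q) (θ₁ q) u.1 (u.2.trans (h₁ q).symm)).trans
        (hD (C₁ q) (L q) (θ₁ q) (δ₁ q) ⟨u.1, u.2.trans (h₁ q).symm⟩)
    have e₂ : q₂ e ∈ D' ↔ act (α₂ q).symm W u ∈ O := by
      rw [← hse, ← Scheme.Hom.comp_apply, show s ≫ q₂ = pullback.lift u.1 (θ₂ q ≫ (U (C₂ q)).ι)
        (u.2.trans ((h₂ q).symm.trans (Category.assoc _ _ _).symm)) by
          apply pullback.hom_ext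
          · simp [q₂, u]
          · simp [q₂, hθ₂, z, reassoc_of% hs]]
      letI := iK (C₂ q); letI := iKc (C₂ q)
      exact (hglue (C₂ q) (L q) (θ₂ q) u.1 (u.2.trans (h₂ q).symm)).trans
        (hD (C₂ q) (L q) (θ₂ q) (δ₂ q) ⟨u.1, u.2.trans (h₂ q).symm⟩)
    have e₃ : act (α₁ q).symm W u ∈ O ↔ act (α₂ q).symm W u ∈ O := by
      refine (hO (α₁ q ≪≫ (α₂ q).symm) (Or.inr ⟨q, hq, rfl⟩) _).trans (iff_of_eq (congrArg (· ∈ O) ?_))
      rw [act_trans]
      exact congrArg _ ((act (α₁ q) W).apply_symm_apply u)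
    rcases heE with ⟨h, h'⟩ | ⟨h, h'⟩
    · exact h' (e₂.2 (e₃.1 (e₁.1 h)))
    · exact h' (e₁.2 (e₃.2 (e₂.1 h)))
  obtain ⟨hT, hpre⟩ := isClopen_image_of_agree g W D' hD' hagree
  obtain ⟨C₀, -⟩ := hJe (Classical.arbitrary S')
  letI := iK C₀; letI := iKc C₀
  let v : FEt.fiberObj ξ W → (Spec (CommRingCat.of (K C₀)) ⟶ pullback W.hom g) := fun u =>
    pullback.lift (act (γ C₀) W u).1 (η C₀ ≫ (U C₀).ι) ((act (γ C₀) W u).2.trans (Category.assoc _ _ _).symm)
  have hv : ∀ u, v u (IsLocalRing.closedPoint _) ∈ D' ↔ u ∈ O := fun u => by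
    refine (hglue C₀ (K C₀) (η C₀) _ (act (γ C₀) W u).2).trans ((hD C₀ (K C₀) (η C₀) (Iso.refl _) _).trans
      (iff_of_eq (congrArg (· ∈ O) ?_)))
    show act (γ C₀).symm W (act (push ((U C₀).ι ≫ g) (Iso.refl _)).symm W (act (γ C₀) W u)) = u
    rw [show act (push ((U C₀).ι ≫ g) (Iso.refl (FEt.fiber (η C₀)))).symm W (act (γ C₀) W u) = act (γ C₀) W u from
      Subtype.ext (pullback.lift_fst _ _ _)]
    exact (act (γ C₀) W).symm_apply_apply u
  haveI : PreconnectedSpace W.left := hW.toPreconnectedSpace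
  have hTu : pullback.fst W.hom g '' D' = Set.univ :=
    @IsClopen.eq_univ _ _ hW.toPreconnectedSpace _ hT ⟨_, _, (hv s₀).2 ⟨1, one_mem _, rfl⟩, rfl⟩
  intro u
  refine (hv u).1 ?_
  rw [← hpre, hTu]
  trivial

end Groth.Agent.Pi1Gen25
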