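import Groth.Agent.Lib.Pi1Gen25.Basic
import Mathlib.AlgebraicGeometry.Morphisms.Proper

/-!
# Local pieces of a clopen of a cover prescribed by an invariant subset of a fibre
-/

set_option autoImplicit false
set_option linter.style.haveILetI false
set_option backward.isDefEq.respectTransparency false

universe u

open CategoryTheory CategoryTheory.Limits AlgebraicGeometry TopologicalSpace

noncomputable section

namespace Groth.Agent.Pi1Gen25

variable {S : Scheme.{u}}

/-- The action of an isomorphism of fibre functors on one fibre. -/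
def act {K L : Type u} [Field K] [Field L] {a : Spec (CommRingCat.of K) ⟶ S} {b : Spec (CommRingCat.of L) ⟶ S}
    (e : FEt.fiber a ≅ FEt.fiber b) (W : FEt.Cat S) : FEt.fiberObj a W ≃ FEt.fiberObj b W :=
  (e.app W).toEquiv

theorem act_trans {K L M : Type u} [Field K] [Field L] [Field M] {a : Spec (CommRingCat.of K) ⟶ S}
    {b : Spec (CommRingCat.of L) ⟶ S} {d : Spec (CommRingCat.of M) ⟶ S}
    (e : FEt.fiber a ≅ FEt.fiber b) (e' : FEt.fiber b ≅ FEt.fiber d) (W : FEt.Cat S) (x : FEt.fiberObj a W) :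
    act (e ≪≫ e') W x = act e' W (act e W x) := rfl

/-- Pushing a path along a morphism. -/
def push {C : Scheme.{u}} (c : C ⟶ S) {K L : Type u} [Field K] [Field L]
    {a : Spec (CommRingCat.of K) ⟶ C} {b : Spec (CommRingCat.of L) ⟶ C} (δ : FEt.fiber a ≅ FEt.fiber b) :
    FEt.fiber (a ≫ c) ≅ FEt.fiber (b ≫ c) :=
  (FEtEq25.restrictFiberIso c a).symm ≪≫ Functor.isoWhiskerLeft (FEt.restrict c) δ ≪≫
    FEtEq25.restrictFiberIso c b

/-- Equal geometric points have isomorphic fibre functors. -/
def congrPt {K : Type u} [Field K] {a b : Spec (CommRingCat.of K) ⟶ S} (h : a = b) :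
    FEt.fiber a ≅ FEt.fiber b :=
  NatIso.ofComponents (fun Y => Equiv.toIso
    { toFun := fun s => ⟨s.1, s.2.trans h⟩
      invFun := fun s => ⟨s.1, s.2.trans h.symm⟩
      left_inv := fun _ => rfl
      right_inv := fun _ => rfl })
    (fun _ => ConcreteCategory.hom_ext _ _ fun _ => rfl)

/-- The stabiliser condition. -/
def Keeps {K : Type u} [Field K] {a : Spec (CommRingCat.of K) ⟶ S} (W : FEt.Cat S) (O : Set (FEt.fiberObj a W))
    (τ : FEt.piOne S a) : Prop := ∀ u, u ∈ O ↔ act τ W u ∈ O

variable {Ω : Type u} [Field Ω] (ξ : Spec (CommRingCat.of Ω) ⟶ S)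

/-- On a connected piece, a subset of the fibre kept by topological generators is cut out by a clopen. -/
theorem exists_local_clopen {C : Scheme.{u}} [PreconnectedSpace C] [IsNoetherian C] (c : C ⟶ S)
    {K : Type u} [Field K] [IsAlgClosed K] (η : Spec (CommRingCat.of K) ⟶ C)
    (γ : FEt.fiber ξ ≅ FEt.fiber (η ≫ c)) (G : Set (FEt.piOne C η)) (hG : PiSp.TopGenerates G)
    (W : FEt.Cat S) (O : Set (FEt.fiberObj ξ W))
    (hO : ∀ σ ∈ G, Keeps W O (γ ≪≫ push c σ ≪≫ γ.symm)) :
    ∃ D : Set ↥(pullback W.hom c), IsClopen D ∧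
      ∀ (L : Type u) [Field L] [IsAlgClosed L] (b : Spec (CommRingCat.of L) ⟶ C)
        (δ : FEt.fiber η ≅ FEt.fiber b) (u : FEt.fiberObj (b ≫ c) W),
        (pullback.lift u.1 b u.2) (IsLocalRing.closedPoint L) ∈ D ↔ act (γ ≪≫ push c δ).symm W u ∈ O := by
  let W₁ := (FEt.restrict c).obj W
  let R : FEt.fiberObj η W₁ ≃ FEt.fiberObj (η ≫ c) W := ((FEtEq25.restrictFiberIso c η).app W).toEquiv
  let OC : Set (FEt.fiberObj η W₁) := {v | act γ.symm W (R v) ∈ O}
  have hOC : ∀ σ : FEt.piOne C η, ∀ v, v ∈ OC ↔ (show FEt.fiberObj η W₁ from σ.hom.app W₁ v) ∈ OC := by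
    refine invariant_of_topGenerates η hG W₁ OC fun σ hσ v => ?_
    refine (hO σ hσ (act γ.symm W (R v))).trans (iff_of_eq (congrArg (· ∈ O) ?_))
    show act γ.symm W (act (push c σ) W (act γ W (act γ.symm W (R v)))) = _
    rw [show act γ W (act γ.symm W (R v)) = R v from (act γ W).apply_symm_apply (R v)]
    show act γ.symm W (R (σ.hom.app W₁ (R.symm (R v)))) = _
    rw [R.symm_apply_apply]
  obtain ⟨D, hDc, hD⟩ := exists_clopen_of_invariant η W₁ OC fun σ v hv => (hOC σ v).1 hv
  refine ⟨D, hDc, fun L _ _ b δ u => ?_⟩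
  let v : FEt.fiberObj b W₁ := ⟨pullback.lift u.1 b u.2, pullback.lift_snd _ _ _⟩
  have h := app_mem_iff b δ.inv W₁ ⟨D, hDc.2⟩ hDc.1 v
  refine Iff.trans h.symm (Iff.trans (hD _).symm ?_)
  exact Iff.rfl

/-- Clopens on the pieces of a finite disjoint clopen decomposition glue. -/
theorem exists_glue {S' : Scheme.{u}} (g : S' ⟶ S) (W : FEt.Cat S) {J : Type*} [Finite J] (U : J → S'.Opens)
    (hU : ∀ j, IsClosed ((U j : S'.Opens) : Set S'))
    (huniq : ∀ i j (y : S'), y ∈ U i → y ∈ U j → i = j)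
    (D : ∀ j, Set ↥(pullback W.hom ((U j).ι ≫ g))) (hD : ∀ j, IsClopen (D j)) :
    ∃ D' : Set ↥(pullback W.hom g), IsClopen D' ∧
      ∀ (j : J) (L : Type u) [Field L] (b : Spec (CommRingCat.of L) ⟶ (U j : Scheme.{u}))
        (w : Spec (CommRingCat.of L) ⟶ W.left) (hw : w ≫ W.hom = b ≫ (U j).ι ≫ g),
        (pullback.lift w (b ≫ (U j).ι) (hw.trans (Category.assoc _ _ _).symm)) (IsLocalRing.closedPoint L) ∈ D' ↔
          (pullback.lift w b hw) (IsLocalRing.closedPoint L) ∈ D j := by
  let ι : ∀ j, pullback W.hom ((U j).ι ≫ g) ⟶ pullback W.hom g := fun j =>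
    pullback.map W.hom ((U j).ι ≫ g) W.hom g (𝟙 _) (U j).ι (𝟙 _) (by simp) (by simp)
  have hι : ∀ j, IsPullback (ι j) (pullback.snd W.hom ((U j).ι ≫ g)) (pullback.snd W.hom g) (U j).ι := fun j => by
    refine IsPullback.of_right ?_ (pullback.lift_snd _ _ _) (IsPullback.of_hasPullback W.hom g)
    rw [show ι j ≫ pullback.fst W.hom g = pullback.fst W.hom ((U j).ι ≫ g) from
      (pullback.lift_fst _ _ _).trans (Category.comp_id _)]
    exact IsPullback.of_hasPullback W.hom ((U j).ι ≫ g)
  haveI : ∀ j, IsOpenImmersion (ι j) := fun j =>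
    MorphismProperty.of_isPullback (P := @IsOpenImmersion) (hι j).flip inferInstance
  have hιc : ∀ j, IsClosedImmersion (ι j) := fun j =>
    MorphismProperty.of_isPullback (P := @IsClosedImmersion) (hι j).flip
      (IsClosedImmersion.of_isPreimmersion _ (by rw [Scheme.Opens.range_ι]; exact hU j))
  refine ⟨⋃ j, ι j '' D j, isClopen_iUnion_of_finite fun j =>
    ⟨haveI := hιc j; (ι j).isClosedEmbedding.isClosedMap _ (hD j).1,
      (ι j).isOpenEmbedding.isOpenMap _ (hD j).2⟩, fun j L _ b w hw => ?_⟩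
  let v := pullback.lift (f := W.hom) (g := (U j).ι ≫ g) w b hw
  have hv : v ≫ ι j = pullback.lift w (b ≫ (U j).ι) (hw.trans (Category.assoc _ _ _).symm) := by
    apply pullback.hom_ext <;> simp [v, ι]
  rw [← hv, Scheme.Hom.comp_apply]
  have hpr : ∀ i (x : ↥(pullback W.hom ((U i).ι ≫ g))), pullback.snd W.hom g (ι i x) ∈ U i := fun i x => by
    rw [← Scheme.Hom.comp_apply, (hι i).w, Scheme.Hom.comp_apply]
    exact (pullback.snd W.hom ((U i).ι ≫ g) x).2
  constructor
  · intro h
    obtain ⟨i, x, hx, hxe⟩ := Set.mem_iUnion.1 h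
    obtain rfl : i = j := huniq i j _ (hxe ▸ hpr i x) (hpr j _)
    exact ((ι i).isOpenEmbedding.injective hxe) ▸ hx
  · exact fun h => Set.mem_iUnion.2 ⟨j, _, h, rfl⟩

/-- A clopen of the base change of a cover with equal pullbacks to the fibre product comes from a clopen
of the cover. -/
theorem isClopen_image_of_agree {S' : Scheme.{u}} (g : S' ⟶ S) [IsProper g] [Surjective g] (W : FEt.Cat S)
    (D : Set ↥(pullback W.hom g)) (hD : IsClopen D)
    (h : ∀ z : ↥(pullback W.hom (pullback.fst g g ≫ g)),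
      (pullback.lift (pullback.fst _ _) (pullback.snd _ _ ≫ pullback.fst g g)
          (pullback.condition.trans (Category.assoc _ _ _).symm) : _ ⟶ pullback W.hom g) z ∈ D ↔
      (pullback.lift (pullback.fst _ _) (pullback.snd _ _ ≫ pullback.snd g g)
          (pullback.condition.trans ((congrArg _ (pullback.condition (f := g) (g := g))).trans
            (Category.assoc _ _ _).symm)) : _ ⟶ pullback W.hom g) z ∈ D) :
    IsClopen (pullback.fst W.hom g '' D) ∧ pullback.fst W.hom g ⁻¹' (pullback.fst W.hom g '' D) = D := by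
  let p := pullback.fst W.hom g
  have hsat : ∀ w₁ w₂, p w₁ = p w₂ → (w₁ ∈ D ↔ w₂ ∈ D) := by
    intro w₁ w₂ hw
    obtain ⟨a, ha₁, ha₂⟩ := Scheme.Pullback.exists_preimage_pullback (f := p) (g := p) w₁ w₂ hw
    have hc : pullback.snd W.hom g ≫ g = p ≫ W.hom := pullback.condition.symm
    let toR : pullback p p ⟶ pullback g g := pullback.lift (pullback.fst p p ≫ pullback.snd W.hom g)
      (pullback.snd p p ≫ pullback.snd W.hom g) (by
        rw [Category.assoc, Category.assoc, hc, pullback.condition_assoc])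
    let toZ : pullback p p ⟶ pullback W.hom (pullback.fst g g ≫ g) := pullback.lift (pullback.fst p p ≫ p) toR (by
      rw [Category.assoc, ← Category.assoc toR, show toR ≫ pullback.fst g g = _ from pullback.lift_fst _ _ _,
        Category.assoc, hc])
    have h1 : toZ ≫ pullback.lift (pullback.fst _ _) (pullback.snd _ _ ≫ pullback.fst g g)
        (pullback.condition.trans (Category.assoc _ _ _).symm) = pullback.fst p p := by
      apply pullback.hom_ext <;> simp [toZ, toR, p]
    have h2 : toZ ≫ pullback.lift (pullback.fst _ _) (pullback.snd _ _ ≫ pullback.snd g g)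
        (pullback.condition.trans ((congrArg _ (pullback.condition (f := g) (g := g))).trans
          (Category.assoc _ _ _).symm)) = pullback.snd p p := by
      apply pullback.hom_ext
      · rw [Category.assoc, pullback.lift_fst, pullback.lift_fst]
        exact pullback.condition
      · simp [toZ, toR]
    have := h (toZ a)
    rwa [← Scheme.Hom.comp_apply, ← Scheme.Hom.comp_apply, h1, h2, ha₁, ha₂] at this
  haveI : IsProper p := MorphismProperty.pullback_fst W.hom g ‹IsProper g›
  haveI : Surjective p := MorphismProperty.pullback_fst W.hom g ‹Surjective g›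
  have hpre : p ⁻¹' (p '' D) = D :=
    Set.Subset.antisymm (fun a ⟨b, hb, e⟩ => (hsat b a e).1 hb) (Set.subset_preimage_image _ _)
  have hcompl : (p '' D)ᶜ = p '' Dᶜ := by
    conv_rhs => rw [← hpre, ← Set.preimage_compl, Set.image_preimage_eq _ p.surjective]
  exact ⟨⟨p.isClosedMap _ hD.1, isClosed_compl_iff.1 (hcompl ▸ p.isClosedMap _ hD.compl.1)⟩, hpre⟩

end Groth.Agent.Pi1Gen25
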